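/-
On-demand lemmas (`eq_def`, `induct`, `fun_cases`, ...) of the recursive or pattern-matching definitions of
`Cfsg.Prelude.Def_PLocal`, realised once here. Lean writes such a lemma into the first file that cites it (by `unfold`,
`rw [f.eq_def]`, `induction ... using f.induct`, `fun_induction`, `fun_cases`), with a proof that mentions a private
name of that file, so two files that each hold a copy collide in the grader's joint check. A file that imports this
one cites the copy here instead of writing its own.
-/
import Cfsg.Prelude.Def_PLocal

set_option autoImplicit false

namespace Cfsg.Agent.Lib.OnDemand.DefPLocal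

/-- Forces the on-demand lemmas of `Cfsg.iterCommutator` into this module. -/
theorem iterCommutator_realised : True := by
  have _h1 := @Cfsg.iterCommutator.eq_def.{0}
  have _h2 := @Cfsg.iterCommutator.eq_1.{0}
  have _h3 := @Cfsg.iterCommutator.eq_2.{0}
  have _h4 := @Cfsg.iterCommutator.induct
  have _h5 := @Cfsg.iterCommutator.induct_unfolding.{0}
  have _h6 := @Cfsg.iterCommutator.fun_cases
  have _h7 := @Cfsg.iterCommutator.fun_cases_unfolding.{0}
  trivial

end Cfsg.Agent.Lib.OnDemand.DefPLocal
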